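import Groth.Agent.Lib.OneMot6.Points
import Groth.Agent.H87.TorusIn
import Groth.Agent.Lib.RedPts.BC
import Groth.Agent.Lib.SmWeil.CartanOpen

/-!
# Homomorphisms of semi-abelian varieties killing torsion
-/

set_option autoImplicit false
set_option linter.style.haveILetI false
set_option linter.unusedSectionVars false

universe u

open CategoryTheory CategoryTheory.Limits AlgebraicGeometry MonoidalCategory CartesianMonoidalCategory
open CategoryTheory.MonObj CategoryTheory.GrpObj
open Groth.Agent.Lib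

namespace Groth.Agent.Lib.OneMot6

variable {k : Type u} [Field k] [IsAlgClosed k]

local notation3 "pt" => (𝟙_ (Over (Spec (CommRingCat.of k))))

/-- Morphisms from a reduced scheme to a separated one agreeing on a dense set of points are equal. -/
theorem ext_of_dense {X Y : Over (Spec (CommRingCat.of k))} [IsReduced X.left] [IsSeparated Y.hom] (a b : X ⟶ Y)
    (P : (pt ⟶ X) → Prop) (hP : Dense (⋃ (x : pt ⟶ X) (_ : P x), Set.range x.left.base))
    (h : ∀ x, P x → x ≫ a = x ≫ b) : a = b := by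
  haveI : Surjective (equalizer.ι a b).left := ⟨by
    rw [← Set.range_eq_univ, ← Set.univ_subset_iff, ← hP.closure_eq]
    refine closure_minimal ?_ (equalizer.ι a b).left.isClosedEmbedding.isClosed_range
    refine Set.iUnion₂_subset fun x hx => ?_
    rintro _ ⟨s, rfl⟩
    refine ⟨(equalizer.lift x (h x hx)).left s, ?_⟩
    rw [← Scheme.Hom.comp_apply, ← Over.comp_left, equalizer.lift_ι]⟩
  haveI := isIso_of_isClosedImmersion_of_surjective (Y := X.left) (equalizer.ι a b).left
  exact Over.OverMorphism.ext ((cancel_epi (equalizer.ι a b).left).1 congr($(equalizer.condition a b).left))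

/-- Properties of the abelian part. -/
theorem abelian_props (A : Over (Spec (CommRingCat.of k))) [GrpObj A] (h : OneMot.IsAbelianSch A) :
    Smooth A.hom ∧ IsProper A.hom ∧ GeometricallyConnected A.hom ∧ GeometricallyIntegral A.hom ∧ IsReduced A.left := by
  haveI := h.smooth
  haveI := h.proper
  haveI hc : GeometricallyConnected A.hom := SmWeil.CartanOpen.geometricallyConnected_of_fibres A fun s => by
    haveI := h.connectedFibres s
    rw [← A.hom.range_fiberι s]
    exact isConnected_range (A.hom.fiberι s).continuous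
  exact ⟨h.smooth, h.proper, hc, H4.GeomInt.geometricallyIntegral A, GrpSch.isReduced_of_smooth_field A.hom⟩

/-- A torus over an algebraically closed field is divisible on points. -/
theorem torus_root {T : Over (Spec (CommRingCat.of k))} [GrpObj T] (hT : Red.IsTorus T) {n : ℕ} (hn : n ≠ 0)
    (y : pt ⟶ T) : ∃ z, z ^ n = y := by
  obtain ⟨r, ⟨e⟩⟩ := H87.TorusIn.exists_split T hT
  let E := Tori.BaseChange.overIso e
  haveI : IsMonHom E.inv := inferInstanceAs (IsMonHom (Tori.BaseChange.overIso e.symm).hom)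
  obtain ⟨z, hz⟩ := SmWeil.CartanSolvable.exists_pow_eq hn (y ≫ E.hom)
  exact ⟨z ≫ E.inv, by rw [← MonObj.pow_comp, hz, Category.assoc, Iso.hom_inv_id, Category.comp_id]⟩

/-- A homomorphism from a torus killing the torsion points is trivial. -/
theorem torus_hom_eq_one {T H : Over (Spec (CommRingCat.of k))} [GrpObj T] [GrpObj H] [LocallyOfFiniteType H.hom]
    (hT : Red.IsTorus T) (f : T ⟶ H) [IsMonHom f]
    (h : ∀ (n : ℕ), n ≠ 0 → ∀ x : pt ⟶ T, x ^ n = 1 → x ≫ f = 1) : f = 1 := by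
  obtain ⟨r, ⟨e⟩⟩ := H87.TorusIn.exists_split T hT
  let E := Tori.BaseChange.overIso e
  haveI : IsMonHom E.inv := inferInstanceAs (IsMonHom (Tori.BaseChange.overIso e.symm).hom)
  have h1 := SmWeil.CartanSolvable.hom_eq_one_of_torsion (E.inv ≫ f) fun n hn x hx => by
    rw [← Category.assoc]
    exact h n hn _ (by rw [← MonObj.pow_comp, hx, MonObj.one_comp])
  rw [← Category.id_comp f, ← E.hom_inv_id, Category.assoc, h1, MonObj.comp_one]

variable {T G A T' G' A' : Over (Spec (CommRingCat.of k))}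
  [GrpObj T] [IsCommMonObj T] [GrpObj G] [IsCommMonObj G] [GrpObj A] [IsCommMonObj A]
  [GrpObj T'] [IsCommMonObj T'] [GrpObj G'] [IsCommMonObj G'] [GrpObj A'] [IsCommMonObj A']
  {incl : T ⟶ G} {proj : G ⟶ A} [IsMonHom incl] [IsMonHom proj]
  {incl' : T' ⟶ G'} {proj' : G' ⟶ A'} [IsMonHom incl'] [IsMonHom proj']

/-- Semi-abelian varieties are divisible on points. -/
theorem semiAb_root [CharZero k] (hs : OneMot.IsSemiAbWith T G A incl proj) {n : ℕ} (hn : n ≠ 0) (y : pt ⟶ G) :
    ∃ z, z ^ n = y := by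
  obtain ⟨h1, h2, h3, h4, h5⟩ := abelian_props A hs.abelian
  haveI := h1; haveI := h2; haveI := h4
  haveI := H4.NPowEtale.surjective_pow (G := A) (n := n) (Nat.cast_ne_zero.mpr hn)
  refine exists_root incl proj hs.comp hs.shortExact (fun t => torus_root hs.torus hn t) (fun a => ?_) y
  obtain ⟨z, hz⟩ := GrpSch.exists_lift_point ((𝟙 A : A ⟶ A) ^ n) a
  exact ⟨z, by rwa [MonObj.comp_pow, Category.comp_id] at hz⟩

/-- A homomorphism of semi-abelian varieties killing the torsion points is trivial. -/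
theorem semiAb_hom_eq_one [CharZero k] (hs : OneMot.IsSemiAbWith T G A incl proj)
    (hs' : OneMot.IsSemiAbWith T' G' A' incl' proj') (h : G ⟶ G') [IsMonHom h]
    (ht : ∀ (n : ℕ), n ≠ 0 → ∀ x : pt ⟶ G, x ^ n = 1 → x ≫ h = 1) : h = 1 := by
  obtain ⟨h1, h2, h3, h4, h5⟩ := abelian_props A hs.abelian
  haveI := h1; haveI := h2; haveI := h3; haveI := h4; haveI := h5
  obtain ⟨g1, g2, -, -, -⟩ := abelian_props A' hs'.abelian
  haveI := g1; haveI := g2
  haveI := Tori.Basic.smooth_of_isTorus hs'.torus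
  haveI := Tori.Basic.isAffineHom_of_isTorus hs'.torus
  -- on the torus
  have hT : incl ≫ h = 1 := by
    have hp : (incl ≫ h) ≫ proj' = 1 := torus_hom_eq_one hs.torus _ fun n hn x hx => by
      rw [← Category.assoc, ← Category.assoc, ht n hn (x ≫ incl) (by rw [← MonObj.pow_comp, hx, MonObj.one_comp]),
        MonObj.one_comp]
    obtain ⟨s, hs1⟩ := exists_fac incl' proj' hs'.comp hs'.shortExact _ hp
    haveI : IsMonHom s := by
      constructor
      · refine injective_points incl' proj' hs'.comp hs'.shortExact _ _ ?_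
        rw [Category.assoc, hs1, IsMonHom.one_hom, IsMonHom.one_hom]
      · refine injective_points incl' proj' hs'.comp hs'.shortExact _ _ ?_
        rw [Category.assoc, hs1, IsMonHom.mul_hom, Category.assoc, IsMonHom.mul_hom,
          MonoidalCategory.tensorHom_comp_tensorHom_assoc, hs1]
    rw [← hs1, torus_hom_eq_one hs.torus s fun n hn x hx => injective_points incl' proj' hs'.comp hs'.shortExact _ _ (by
      rw [Category.assoc, hs1, MonObj.one_comp, ← Category.assoc,
        ht n hn (x ≫ incl) (by rw [← MonObj.pow_comp, hx, MonObj.one_comp])]), MonObj.one_comp]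
  -- the induced morphism on the abelian quotient
  obtain ⟨h', hh'⟩ := H2.Mult.exists_of_rel (K := Scheme.fppfPrecoverage)
    (fun V (a : V ⟶ A) (b : V ⟶ G') => ∃ g : V ⟶ G, g ≫ proj = a ∧ g ≫ h = b)
    (fun V a b b' ⟨g, hg, hb⟩ ⟨g', hg', hb'⟩ => by
      obtain ⟨t, ht'⟩ := exists_fac incl proj hs.comp hs.shortExact (g / g') (by rw [GrpObj.div_comp, hg, hg', div_self'])
      have := congrArg (· ≫ h) ht'
      simp only [Category.assoc, hT, MonObj.comp_one, GrpObj.div_comp, hb, hb'] at this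
      exact (div_eq_one.1 this.symm))
    (fun V W f a b ⟨g, hg, hb⟩ => ⟨f ≫ g, by rw [Category.assoc, hg], by rw [Category.assoc, hb]⟩)
    (H2.Mult.liftSieve_mem proj hs.shortExact.epi_g (𝟙 A))
    (fun V f ⟨g, hg⟩ => ⟨g ≫ h, g, by rw [hg, Category.comp_id], rfl⟩)
  have hfac : h = proj ≫ h' := (hh' G proj h ⟨𝟙 G, Category.id_comp _, Category.id_comp _⟩).symm
  -- torsion of the quotient
  let P : (pt ⟶ A) → Prop := fun a => ∃ n, n ≠ 0 ∧ a ^ n = 1
  have hkill : ∀ a, P a → a ≫ h' = 1 := fun a ⟨n, hn, ha⟩ => by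
    obtain ⟨x, hx, hxa⟩ := exists_torsion_lift incl proj hs.comp hs.shortExact (fun t => torus_root hs.torus hn t) a ha
    rw [← hxa, Category.assoc, ← hfac, ht n hn x hx]
  have hdense : Dense (⋃ (x : pt ⟶ A) (_ : P x), Set.range x.left.base) := by
    haveI : Fact (Nat.Prime 2) := ⟨Nat.prime_two⟩
    refine (S18542.result k A 2 (Nat.cast_ne_zero.mpr two_ne_zero)).mono ?_
    refine Set.iUnion_subset fun n => Set.iUnion₂_subset fun a ha => ?_
    exact Set.subset_iUnion₂_of_subset a ⟨2 ^ n, pow_ne_zero _ two_ne_zero, ha⟩ (subset_refl _)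
  have hp2 : h' ≫ proj' = 1 := ext_of_dense _ _ P hdense fun a ha => by
    rw [← Category.assoc, hkill a ha, MonObj.one_comp, MonObj.comp_one]
  obtain ⟨s, hs2⟩ := exists_fac incl' proj' hs'.comp hs'.shortExact _ hp2
  haveI : IsSeparated T'.hom := inferInstance
  have hs3 : s = 1 := ext_of_dense _ _ P hdense fun a ha =>
    injective_points incl' proj' hs'.comp hs'.shortExact _ _ (by
      rw [Category.assoc, hs2, hkill a ha, MonObj.comp_one, MonObj.one_comp])
  rw [hfac, ← hs2, hs3, MonObj.one_comp, MonObj.comp_one]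

theorem isMonHom_div {X Y : Over (Spec (CommRingCat.of k))} [GrpObj X] [GrpObj Y] [IsCommMonObj Y] (a b : X ⟶ Y)
    [IsMonHom a] [IsMonHom b] : IsMonHom (a / b) := by
  constructor
  · rw [GrpObj.comp_div, IsMonHom.one_hom, IsMonHom.one_hom, div_self']
    exact (Hom.one_def).trans (by rw [toUnit_unique (toUnit _) (𝟙 _), Category.id_comp])
  · have h : ∀ (c : X ⟶ Y) [IsMonHom c], μ[X] ≫ c = (fst X X ≫ c) * (snd X X ≫ c) := fun c _ => by
      rw [← MonObj.mul_comp, Hom.mul_def, lift_fst_snd, Category.id_comp]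
    have h2 : ∀ c : X ⟶ Y, (c ⊗ₘ c) ≫ μ[Y] = (fst X X ≫ c) * (snd X X ≫ c) := fun c => by
      rw [Hom.mul_def]
      congr 1
    rw [GrpObj.comp_div, h a, h b, h2, GrpObj.comp_div, GrpObj.comp_div, mul_div_mul_comm]

section Lattice

open RedPts

variable {L : Over (Spec (CommRingCat.of k))} [GrpObj L]

set_option backward.isDefEq.respectTransparency false in
theorem down_left {S S' : Scheme.{u}} {π : S' ⟶ S} {X : Over S'} {Y : Over S} (z : X ⟶ Red.bc π Y) :
    (BC.down π z).left = z.left ≫ pullback.fst Y.hom π := by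
  simp [BC.down, Over.mapPullbackAdj]

set_option backward.isDefEq.respectTransparency false in
theorem ext_piece {S S' : Scheme.{u}} {π : S' ⟶ S} {L Y : Over S} {I : Type} [Small.{u} I]
    (e : Red.bc π L ≅ TwC.const S' I) (σ : S ⟶ S') {m : I} (q : Over.mk σ ⟶ TwC.const S' I)
    (hq : q.left = σ ≫ Sigma.ι (fun _ : I => S') m) {P : Over S} (ε : P ⟶ (Over.map π).obj (Over.mk σ))
    {ε₀ : P.left ⟶ S} (hε : ε.left = ε₀) (ψ : L.left ⟶ (Red.bc π L).left)
    (hψ₁ : ψ ≫ pullback.fst L.hom π = 𝟙 _) (hψ₂ : ψ ≫ pullback.snd L.hom π = L.hom ≫ σ) (a b : L ⟶ Y)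
    (h : (ε ≫ BC.down π (q ≫ e.inv)) ≫ a = (ε ≫ BC.down π (q ≫ e.inv)) ≫ b) {W : Scheme.{u}}
    (p₁ : W ⟶ L.left) (p₂ : W ⟶ S') (hc : p₁ ≫ ψ ≫ e.hom.left = p₂ ≫ Sigma.ι (fun _ : I => S') m)
    [IsIso ε₀] : p₁ ≫ a.left = p₁ ≫ b.left := by
  have hw : e.hom.left ≫ Sigma.desc (fun _ : I => 𝟙 S') = pullback.snd L.hom π := Over.w e.hom
  have hp₂ : p₁ ≫ L.hom ≫ σ = p₂ := by
    have h' := congrArg (· ≫ Sigma.desc (fun _ : I => 𝟙 S')) hc
    simp only [Category.assoc, Sigma.ι_desc, Category.comp_id, hw, hψ₂] at h'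
    exact h'
  have h1 : p₁ ≫ ψ = (p₁ ≫ L.hom) ≫ (q ≫ e.inv).left := by
    have h2 : (p₁ ≫ ψ) ≫ e.hom.left = (p₁ ≫ L.hom) ≫ q.left := by
      rw [Category.assoc, hc, ← hp₂, hq]
      simp only [Category.assoc]
    rw [Over.comp_left]
    haveI : IsIso e.hom.left := ((Over.forget _).mapIso e).isIso_hom
    rw [← cancel_mono e.hom.left, h2]
    simp only [Category.assoc]
    rw [← Over.comp_left, e.inv_hom_id]
    simp
  have h3 := congrArg (· ≫ pullback.fst L.hom π) h1
  simp only [Category.assoc, hψ₁, Category.comp_id] at h3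
  have h4 : (q ≫ e.inv).left ≫ pullback.fst L.hom π ≫ a.left = (q ≫ e.inv).left ≫ pullback.fst L.hom π ≫ b.left := by
    have h5 := congrArg (·.left) h
    simp only [Over.comp_left, hε, down_left, Category.assoc] at h5
    exact (cancel_epi ε₀).1 (by simpa only [Over.comp_left, Category.assoc] using h5)
  rw [h3]
  simp only [Category.assoc]
  exact congrArg (fun x => p₁ ≫ L.hom ≫ x) (by simpa only [Over.comp_left, Category.assoc] using h4)

set_option backward.isDefEq.respectTransparency false in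
/-- A lattice over an algebraically closed field: its points, and detection of morphisms on points. -/
theorem lattice_data (hL : OneMot.IsLattice L) :
    ∃ (r : ℕ) (φ : Multiplicative (Fin r → ℤ) →* (Over.mk (𝟙 (Spec (CommRingCat.of k))) ⟶ L)),
      Function.Bijective φ ∧
      (∀ (Y : Over (Spec (CommRingCat.of k))) (a b : L ⟶ Y), (∀ m, φ m ≫ a = φ m ≫ b) → a = b) ∧
      ∀ (Y : Over (Spec (CommRingCat.of k)))
        (c : Multiplicative (Fin r → ℤ) → (Over.mk (𝟙 (Spec (CommRingCat.of k))) ⟶ Y)),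
        ∃ a : L ⟶ Y, ∀ m, φ m ≫ a = c m := by
  obtain ⟨S', π, hπ, ⟨y, -⟩, r, e, he⟩ := hL (IsLocalRing.closedPoint k)
  haveI := hπ
  haveI : JacobsonSpace S' := LocallyOfFiniteType.jacobsonSpace π
  obtain ⟨c, -, hc⟩ := nonempty_inter_closedPoints (X := S') (Z := Set.univ) ⟨y, trivial⟩ isClosed_univ.isLocallyClosed
  let σ : Spec (CommRingCat.of k) ⟶ S' := pointOfClosedPoint π c hc
  have hσ : σ ≫ π = 𝟙 _ := pointOfClosedPoint_comp π c hc
  let Z : Over S' := Over.mk σ
  let ε : Over.mk (𝟙 (Spec (CommRingCat.of k))) ≅ (Over.map π).obj Z := Over.isoMk (Iso.refl _) (by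
    show 𝟙 _ ≫ σ ≫ π = 𝟙 _
    rw [hσ, Category.id_comp])
  let q : ∀ m : Multiplicative (Fin r → ℤ), Z ⟶ TwC.const S' (Multiplicative (Fin r → ℤ)) := fun m =>
    Over.homMk (σ ≫ Sigma.ι (fun _ : Multiplicative (Fin r → ℤ) => S') m) (by simp [Z])
  let τ : Z ⟶ 𝟙_ (Over S') := Over.homMk σ (Category.comp_id _)
  have hq : ∀ m, q m = τ ≫ TwC.pt S' (Multiplicative (Fin r → ℤ)) m := fun m => Over.OverMorphism.ext rfl
  let φ : Multiplicative (Fin r → ℤ) →* (Over.mk (𝟙 (Spec (CommRingCat.of k))) ⟶ L) :=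
    MonoidHom.mk' (fun m => ε.hom ≫ BC.down π (q m ≫ e.inv)) fun m n => by
      rw [← MonObj.comp_mul, ← BC.down_mul, hq, hq, hq, Category.assoc, Category.assoc, Category.assoc, ← MonObj.comp_mul,
        he]
  have hsig : ∀ {T : Scheme.{u}} [Nonempty T] (u v : T ⟶ S') (m n : Multiplicative (Fin r → ℤ)),
      u ≫ Sigma.ι (fun _ : Multiplicative (Fin r → ℤ) => S') m = v ≫ Sigma.ι (fun _ : Multiplicative (Fin r → ℤ) => S') n →
        m = n := by
    intro T hT u v m n h
    obtain ⟨t⟩ := hT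
    by_contra hne
    have he : Sigma.ι (fun _ : Multiplicative (Fin r → ℤ) => S') m (u t) =
        Sigma.ι (fun _ : Multiplicative (Fin r → ℤ) => S') n (v t) := by
      rw [← Scheme.Hom.comp_apply, ← Scheme.Hom.comp_apply, h]
    exact hne (congrArg Sigma.fst ((sigmaι_eq_iff (fun _ : Multiplicative (Fin r → ℤ) => S') m n _ _).mp he))
  refine ⟨r, φ, ⟨fun m n h => ?_, fun x => ?_⟩, fun Y a b h => ?_, fun Y c => ?_⟩
  · have h1 := BC.down_injective ((cancel_epi ε.hom).1 (show ε.hom ≫ BC.down π (q m ≫ e.inv) = ε.hom ≫ BC.down π (q n ≫ e.inv) from h))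
    rw [cancel_mono] at h1
    exact hsig σ σ m n congr($(h1).left)
  · obtain ⟨p, hp⟩ : ∃ p, BC.down π p = ε.inv ≫ x := ⟨BC.up π (ε.inv ≫ x), BC.down_up _⟩
    let w := (p ≫ e.hom).left
    obtain ⟨m, z, hz⟩ := (sigmaOpenCover (fun _ : Multiplicative (Fin r → ℤ) => S')).exists_eq (w (IsLocalRing.closedPoint k))
    have hr : Set.range w ⊆ Set.range (Sigma.ι (fun _ : Multiplicative (Fin r → ℤ) => S') m) := by
      rintro _ ⟨t, rfl⟩
      exact ⟨z, hz.trans (congrArg w (Subsingleton.elim (α := PrimeSpectrum k) _ _))⟩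
    let t := IsOpenImmersion.lift (Sigma.ι (fun _ : Multiplicative (Fin r → ℤ) => S') m) w hr
    have ht : t ≫ Sigma.ι (fun _ : Multiplicative (Fin r → ℤ) => S') m = w := IsOpenImmersion.lift_fac _ _ _
    have ht' : t = σ := by
      have := Over.w (p ≫ e.hom)
      change w ≫ Sigma.desc (fun _ : Multiplicative (Fin r → ℤ) => 𝟙 S') = σ at this
      rw [← ht, Category.assoc, Sigma.ι_desc, Category.comp_id] at this
      exact this
    refine ⟨m, show ε.hom ≫ BC.down π (q m ≫ e.inv) = x from ?_⟩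
    have : q m = p ≫ e.hom := Over.OverMorphism.ext (show σ ≫ _ = w by rw [← ht, ht'])
    rw [this, Category.assoc, e.hom_inv_id, Category.comp_id, hp, ε.hom_inv_id_assoc]
  · let ψ : L.left ⟶ (Red.bc π L).left := pullback.lift (𝟙 _) (L.hom ≫ σ) (by
      rw [Category.id_comp, Category.assoc, hσ, Category.comp_id])
    refine Over.OverMorphism.ext ?_
    refine Scheme.Cover.hom_ext ((sigmaOpenCover (fun _ : Multiplicative (Fin r → ℤ) => S')).pullback₁ (ψ ≫ e.hom.left)) _ _
      fun m => ?_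
    exact ext_piece e σ (q m) rfl ε.hom rfl ψ (pullback.lift_fst _ _ _) (pullback.lift_snd _ _ _) a b (h m)
      (pullback.fst (ψ ≫ e.hom.left) (Sigma.ι (fun _ : Multiplicative (Fin r → ℤ) => S') m))
      (pullback.snd (ψ ≫ e.hom.left) (Sigma.ι (fun _ : Multiplicative (Fin r → ℤ) => S') m)) pullback.condition
  · let ψ : L.left ⟶ (Red.bc π L).left := pullback.lift (𝟙 _) (L.hom ≫ σ) (by
      rw [Category.id_comp, Category.assoc, hσ, Category.comp_id])
    let d : L.left ⟶ Y.left := ψ ≫ e.hom.left ≫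
      Sigma.desc (fun m : Multiplicative (Fin r → ℤ) => π ≫ (c m).left)
    have hd : d ≫ Y.hom = L.hom := by
      have hw : e.hom.left ≫ Sigma.desc (fun _ : Multiplicative (Fin r → ℤ) => 𝟙 S') = pullback.snd L.hom π :=
        Over.w e.hom
      have h1 : Sigma.desc (fun m : Multiplicative (Fin r → ℤ) => π ≫ (c m).left) ≫ Y.hom =
          Sigma.desc (fun _ : Multiplicative (Fin r → ℤ) => 𝟙 S') ≫ π := Sigma.hom_ext _ _ fun m => by
        rw [Sigma.ι_desc_assoc, Sigma.ι_desc_assoc, Category.id_comp, Category.assoc, Over.w (c m)]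
        exact Category.comp_id _
      simp only [d, Category.assoc, h1, reassoc_of% hw, ψ, pullback.lift_snd_assoc, hσ, Category.comp_id]
    refine ⟨Over.homMk d hd, fun m => Over.OverMorphism.ext ?_⟩
    have h2 : (φ m).left = (q m ≫ e.inv).left ≫ pullback.fst L.hom π := by
      show (ε.hom ≫ BC.down π (q m ≫ e.inv)).left = _
      rw [Over.comp_left, down_left]
      exact Category.id_comp _
    have h3 : (φ m).left ≫ ψ = (q m ≫ e.inv).left := by
      apply pullback.hom_ext
      · rw [Category.assoc, pullback.lift_fst, Category.comp_id, h2]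
      · rw [Category.assoc, pullback.lift_snd, ← Category.assoc, Over.w (φ m)]
        exact (Category.id_comp _).trans (Over.w (q m ≫ e.inv)).symm
    show (φ m).left ≫ ψ ≫ e.hom.left ≫ Sigma.desc (fun m => π ≫ (c m).left) = (c m).left
    rw [reassoc_of% h3, ← Category.assoc, ← Over.comp_left, Category.assoc, e.inv_hom_id, Category.comp_id]
    show (σ ≫ Sigma.ι (fun _ : Multiplicative (Fin r → ℤ) => S') m) ≫ _ = _
    rw [Category.assoc, Sigma.ι_desc, reassoc_of% hσ]

/-- Points of a lattice have no torsion. -/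
theorem lattice_torsion_free (hL : OneMot.IsLattice L) (l : Over.mk (𝟙 (Spec (CommRingCat.of k))) ⟶ L) {m : ℕ}
    (hm : m ≠ 0) (hl : l ^ m = 1) : l = 1 := by
  obtain ⟨r, φ, hφ, -⟩ := lattice_data hL
  obtain ⟨x, rfl⟩ := hφ.2 l
  rw [← map_pow, ← map_one φ] at hl
  have h1 : m • x.toAdd = 0 := congrArg Multiplicative.toAdd (hφ.1 hl)
  rw [show x = 1 from Multiplicative.toAdd.injective ((smul_eq_zero.1 h1).resolve_left hm), map_one]

/-- A point of a lattice divisible by every integer is trivial. -/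
theorem lattice_eq_one (hL : OneMot.IsLattice L) (l : Over.mk (𝟙 (Spec (CommRingCat.of k))) ⟶ L)
    (h : ∀ m : ℕ, m ≠ 0 → ∃ z, z ^ m = l) : l = 1 := by
  obtain ⟨r, φ, hφ, -⟩ := lattice_data hL
  obtain ⟨x, rfl⟩ := hφ.2 l
  suffices x = 1 by rw [this, map_one]
  refine Multiplicative.toAdd.injective (funext fun i => ?_)
  by_contra hne
  obtain ⟨z, hz⟩ := h ((x.toAdd i).natAbs + 1) (Nat.succ_ne_zero _)
  obtain ⟨w, rfl⟩ := hφ.2 z
  rw [← map_pow] at hz
  have h1 : ((x.toAdd i).natAbs + 1) • w.toAdd i = x.toAdd i := congrFun (congrArg Multiplicative.toAdd (hφ.1 hz)) i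
  refine hne (Int.eq_zero_of_dvd_of_natAbs_lt_natAbs (d := (((x.toAdd i).natAbs + 1 : ℕ) : ℤ))
    ⟨w.toAdd i, h1.symm.trans (nsmul_eq_mul _ _)⟩ (by rw [Int.natAbs_natCast]; omega))

/-- Morphisms out of a lattice are determined on points. -/
theorem lattice_ext (hL : OneMot.IsLattice L) {Y : Over (Spec (CommRingCat.of k))} (a b : L ⟶ Y)
    (h : ∀ x : Over.mk (𝟙 (Spec (CommRingCat.of k))) ⟶ L, x ≫ a = x ≫ b) : a = b := by
  obtain ⟨r, φ, -, hext, -⟩ := lattice_data hL
  exact hext Y a b fun m => h _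

end Lattice

end Groth.Agent.Lib.OneMot6
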