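import Groth.Agent.Lib.OneMot6.Torus
import Groth.Agent.H63.SubAV
import Groth.Agent.H63.GrpSmooth
import Groth.Agent.H4.TorsionDense
import Groth.Agent.H2.TorusHom.Main
import Groth.Agent.Lib.BirMap96.FormalFun
import Groth.Agent.Lib.GrpQ.MonoClosed

/-!
# Homomorphisms of semi-abelian varieties bijective on torsion
-/

set_option autoImplicit false
set_option linter.style.haveILetI false
set_option linter.unusedSectionVars false

universe u

open CategoryTheory CategoryTheory.Limits AlgebraicGeometry MonoidalCategory CartesianMonoidalCategory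
open CategoryTheory.MonObj CategoryTheory.GrpObj
open Groth.Agent.Lib

namespace Groth.Agent.Lib.OneMot6

variable {k : Type u} [Field k] [IsAlgClosed k]

local notation3 "pt" => (𝟙_ (Over (Spec (CommRingCat.of k))))

/-- A morphism from a proper connected reduced scheme to an affine one is constant. -/
theorem eq_const {M T : Over (Spec (CommRingCat.of k))} [IsProper M.hom] [ConnectedSpace M.left] [IsReduced M.left]
    [IsAffineHom T.hom] (δ : M ⟶ T) (x : pt ⟶ M) (y : pt ⟶ M) : x ≫ δ = y ≫ δ := by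
  haveI : IsAffine T.left := isAffine_of_isAffineHom T.hom
  refine Over.OverMorphism.ext (ext_of_isAffine ?_)
  ext a
  obtain ⟨c, hc⟩ := BirMap96.FormalFun.exists_const M.hom (δ.left.appTop.hom a)
  have hc0 := hc.eq_zero
  have key : ∀ z : pt ⟶ M, (z ≫ δ).left.appTop.hom a =
      (pt).hom.appTop.hom ((Scheme.ΓSpecIso (CommRingCat.of k)).inv.hom c) := fun z => by
    rw [Over.comp_left, Scheme.Hom.comp_appTop, CommRingCat.comp_apply, sub_eq_zero.1 hc0,
      ← CommRingCat.comp_apply, ← Scheme.Hom.comp_appTop, Over.w z]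
  exact (key x).trans (key y).symm

variable {T G A T' G' A' : Over (Spec (CommRingCat.of k))}
  [GrpObj T] [IsCommMonObj T] [GrpObj G] [IsCommMonObj G] [GrpObj A] [IsCommMonObj A]
  [GrpObj T'] [IsCommMonObj T'] [GrpObj G'] [IsCommMonObj G'] [GrpObj A'] [IsCommMonObj A']
  {incl : T ⟶ G} {proj : G ⟶ A} [IsMonHom incl] [IsMonHom proj]
  {incl' : T' ⟶ G'} {proj' : G' ⟶ A'} [IsMonHom incl'] [IsMonHom proj']
  (hs : OneMot.IsSemiAbWith T G A incl proj) (hs' : OneMot.IsSemiAbWith T' G' A' incl' proj')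
  (h : G ⟶ G') [IsMonHom h]

include hs hs'

/-- The restriction to the tori. -/
theorem exists_fT : ∃ (s : T ⟶ T') (_ : IsMonHom s), s ≫ incl' = incl ≫ h := by
  obtain ⟨g1, g2, -, -, -⟩ := abelian_props A' hs'.abelian
  haveI := g1; haveI := g2
  obtain ⟨s, hs1⟩ := exists_fac incl' proj' hs'.comp hs'.shortExact (incl ≫ h)
    (H2.TorusHom.torus_hom_eq_one T A' hs.torus ((incl ≫ h) ≫ proj'))
  refine ⟨s, ⟨?_, ?_⟩, hs1⟩
  · refine injective_points incl' proj' hs'.comp hs'.shortExact _ _ ?_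
    rw [Category.assoc, hs1, IsMonHom.one_hom, IsMonHom.one_hom]
  · refine injective_points incl' proj' hs'.comp hs'.shortExact _ _ ?_
    rw [Category.assoc, hs1, IsMonHom.mul_hom, Category.assoc, IsMonHom.mul_hom,
      MonoidalCategory.tensorHom_comp_tensorHom_assoc, hs1]

/-- The map induced on the abelian quotients. -/
theorem exists_hA : ∃ (h' : A ⟶ A') (_ : IsMonHom h'), proj ≫ h' = h ≫ proj' := by
  obtain ⟨s, _, hs1⟩ := exists_fT hs hs' h
  have hpl : ∀ {V : Over (Spec (CommRingCat.of k))} (x : V ⟶ A),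
      H2.Mult.liftSieve proj x ∈ QuotSh.J Scheme.fppfPrecoverage (Spec (CommRingCat.of k)) V :=
    fun x => H2.Mult.liftSieve_mem proj hs.shortExact.epi_g x
  obtain ⟨h', hh'⟩ := H2.Mult.exists_of_rel (K := Scheme.fppfPrecoverage)
    (fun V (a : V ⟶ A) (b : V ⟶ A') => ∃ g : V ⟶ G, g ≫ proj = a ∧ g ≫ h ≫ proj' = b)
    (fun V a b b' ⟨g, hg, hb⟩ ⟨g', hg', hb'⟩ => by
      obtain ⟨t, ht⟩ := exists_fac incl proj hs.comp hs.shortExact (g / g') (by rw [GrpObj.div_comp, hg, hg', div_self'])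
      have h1 : (g / g') ≫ h ≫ proj' = 1 := by
        rw [← ht, Category.assoc, ← Category.assoc incl, ← hs1, Category.assoc, hs'.comp, MonObj.comp_one,
          MonObj.comp_one]
      rw [GrpObj.div_comp, hb, hb'] at h1
      exact div_eq_one.1 h1)
    (fun V W f a b ⟨g, hg, hb⟩ => ⟨f ≫ g, by rw [Category.assoc, hg], by rw [Category.assoc, hb]⟩)
    (hpl (𝟙 A))
    (fun V f ⟨g, hg⟩ => ⟨g ≫ h ≫ proj', g, by rw [hg, Category.comp_id], rfl⟩)
  refine ⟨h', ⟨?_, ?_⟩, hh' G proj _ ⟨𝟙 G, Category.id_comp _, Category.id_comp _⟩⟩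
  · refine hh' _ η[A] _ ⟨η[G], IsMonHom.one_hom proj, ?_⟩
    rw [IsMonHom.one_hom (h ≫ proj')]
  · refine H2.Mult.hom_ext_sieve (GrothendieckTopology.intersection_covering _ (hpl (fst A A)) (hpl (snd A A))) ?_
    rintro V f ⟨⟨g₁, hg₁⟩, ⟨g₂, hg₂⟩⟩
    have e1 : f ≫ μ[A] = (f ≫ fst A A) * (f ≫ snd A A) := by
      rw [Hom.mul_def, ← comp_lift_assoc, lift_fst_snd, Category.id_comp]
    have e2 : f ≫ (h' ⊗ₘ h') ≫ μ[A'] = (f ≫ fst A A ≫ h') * (f ≫ snd A A ≫ h') := by
      rw [Hom.mul_def, ← comp_lift_assoc, lift_fst_comp_snd_comp]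
    rw [← Category.assoc, e2, e1, hh' V (f ≫ fst A A) _ ⟨g₁, hg₁, rfl⟩ |> fun e => (Category.assoc f (fst A A) h').symm.trans e,
      hh' V (f ≫ snd A A) _ ⟨g₂, hg₂, rfl⟩ |> fun e => (Category.assoc f (snd A A) h').symm.trans e,
      hh' V _ _ ⟨g₁ * g₂, by rw [MonObj.mul_comp, hg₁, hg₂], rfl⟩, MonObj.mul_comp]

variable [CharZero k] (hinj : ∀ (n : ℕ), n ≠ 0 → ∀ y : (𝟙_ (Over (Spec (CommRingCat.of k)))) ⟶ G, y ^ n = 1 → y ≫ h = 1 → y = 1)

include hinj

/-- The map on tori is injective on torsion. -/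
theorem fT_injective {s : T ⟶ T'} (hs1 : s ≫ incl' = incl ≫ h) (n : ℕ) (hn : n ≠ 0) (x : pt ⟶ T) (hx : x ^ n = 1)
    (hxs : x ≫ s = 1) : x = 1 :=
  injective_points incl proj hs.comp hs.shortExact _ _ ((hinj n hn (x ≫ incl)
    (by rw [← MonObj.pow_comp, hx, MonObj.one_comp])
    (by rw [Category.assoc, ← hs1, ← Category.assoc, hxs, MonObj.one_comp])).trans (MonObj.one_comp incl).symm)

/-- A bounded exponent kills the points of the kernel on the abelian quotient. -/
theorem exists_exponent {h' : A ⟶ A'} [IsMonHom h'] (hh' : proj ≫ h' = h ≫ proj') :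
    ∃ c : ℕ, c ≠ 0 ∧ ∀ a : pt ⟶ A, a ≫ h' = 1 → a ^ c = 1 := by
  obtain ⟨a1, a2, a3, a4, a5⟩ := abelian_props A hs.abelian
  haveI := a1; haveI := a2; haveI := a4
  obtain ⟨g1, g2, -, -, -⟩ := abelian_props A' hs'.abelian
  haveI := g2
  haveI := Tori.Basic.isAffineHom_of_isTorus hs'.torus
  obtain ⟨s, _, hs1⟩ := exists_fT hs hs' h
  obtain ⟨r, _, hr⟩ := torus_retraction hs.torus hs'.torus s fun n hn x hx hxs =>
    fT_injective hs hs' h hinj hs1 n hn x hx hxs
  let q : T' ⟶ T' := 𝟙 T' / (r ≫ s)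
  have hq : ∀ {V : Over (Spec (CommRingCat.of k))} (t : V ⟶ T), (t ≫ s) ≫ q = 1 := fun t => by
    simp only [q, GrpObj.comp_div, Category.comp_id]
    rw [Category.assoc, reassoc_of% hr, div_self']
  haveI : IsMonHom q := isMonHom_div _ _
  obtain ⟨M, _, i, _, c, hi, hMp, hMi, hMh, hc, hpow⟩ := H63.SubAV.exists_kernelAV h'
  haveI := hi; haveI := hMp; haveI := hMi
  haveI : IsIntegral M.left := GeometricallyIntegral.isIntegral_of_subsingleton M.hom
  haveI : Mono i := Over.mono_of_mono_left _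
  haveI : IsCommMonObj M := H4.TorsionDense.isCommMonObj_of_mono i
  obtain ⟨δ, hδ⟩ := H2.Mult.exists_of_rel (K := Scheme.fppfPrecoverage)
    (fun V (f : V ⟶ M) (b : V ⟶ T') => ∃ (g : V ⟶ G) (σ : V ⟶ T'), g ≫ proj = f ≫ i ∧ σ ≫ incl' = g ≫ h ∧ b = σ ≫ q)
    (fun V f b b' ⟨g, σ, hg, hσ, hb⟩ ⟨g', σ', hg', hσ', hb'⟩ => by
      obtain ⟨t, ht⟩ := exists_fac incl proj hs.comp hs.shortExact (g / g') (by rw [GrpObj.div_comp, hg, hg', div_self'])
      have h1 : σ / σ' = t ≫ s := injective_points incl' proj' hs'.comp hs'.shortExact _ _ (by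
        rw [GrpObj.div_comp, hσ, hσ', Category.assoc, hs1, ← Category.assoc, ht, GrpObj.div_comp])
      rw [hb, hb', ← div_eq_one, ← GrpObj.div_comp, h1, hq])
    (fun V W f a b ⟨g, σ, hg, hσ, hb⟩ => ⟨f ≫ g, f ≫ σ, by rw [Category.assoc, hg, Category.assoc],
      by rw [Category.assoc, hσ, Category.assoc], by rw [hb, Category.assoc]⟩)
    (H2.Mult.liftSieve_mem proj hs.shortExact.epi_g i)
    (fun V f ⟨g, hg⟩ => by
      obtain ⟨σ, hσ⟩ := exists_fac incl' proj' hs'.comp hs'.shortExact (g ≫ h) (by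
        rw [Category.assoc, ← hh', ← Category.assoc, hg, Category.assoc, hMh, MonObj.comp_one])
      exact ⟨σ ≫ q, g, σ, hg, hσ, rfl⟩)
  have hone : (1 : pt ⟶ M) ≫ δ = 1 :=
    hδ _ _ _ ⟨1, 1, by rw [MonObj.one_comp, MonObj.one_comp], by rw [MonObj.one_comp, MonObj.one_comp],
      (MonObj.one_comp q).symm⟩
  have htriv : ∀ (n : ℕ), n ≠ 0 → ∀ m : pt ⟶ M, m ^ n = 1 → m = 1 := fun n hn m hm => by
    obtain ⟨e, he, hem⟩ := exists_torsion_lift incl proj hs.comp hs.shortExact (fun t => torus_root hs.torus hn t)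
      (m ≫ i) (by rw [← MonObj.pow_comp, hm, MonObj.one_comp])
    obtain ⟨σ, hσ⟩ := exists_fac incl' proj' hs'.comp hs'.shortExact (e ≫ h) (by
      rw [Category.assoc, ← hh', ← Category.assoc, hem, Category.assoc, hMh, MonObj.comp_one])
    have hσn : σ ^ n = 1 := injective_points incl' proj' hs'.comp hs'.shortExact _ _ (by
      rw [MonObj.pow_comp, hσ, ← MonObj.pow_comp, he, MonObj.one_comp, MonObj.one_comp])
    have h0 : σ ≫ q = 1 := by
      rw [← hδ _ m _ ⟨e, σ, hem, hσ, rfl⟩, eq_const δ m 1, hone]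
    have h1 : σ = σ ≫ r ≫ s := by
      simpa only [q, GrpObj.comp_div, Category.comp_id, div_eq_one] using h0
    have h2 : e / ((σ ≫ r) ≫ incl) = 1 := hinj n hn _ (by
      rw [div_pow, he, ← MonObj.pow_comp, ← MonObj.pow_comp, hσn, MonObj.one_comp, MonObj.one_comp, div_one]) (by
      rw [GrpObj.div_comp, ← hσ, Category.assoc (σ ≫ r), ← hs1]
      simp only [Category.assoc]
      rw [← Category.assoc r, ← Category.assoc σ, ← h1, div_self'])
    refine (cancel_mono i).1 ?_
    rw [MonObj.one_comp, ← hem, div_eq_one.1 h2, Category.assoc, hs.comp, MonObj.comp_one]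
  haveI : Fact (Nat.Prime 2) := ⟨Nat.prime_two⟩
  haveI : IsClosedImmersion (1 : pt ⟶ M).left := by
    haveI : IsClosedImmersion ((1 : pt ⟶ M).left ≫ M.hom) := by
      rw [Over.w]; exact (inferInstance : IsClosedImmersion (𝟙 (Spec (CommRingCat.of k))))
    exact IsClosedImmersion.of_comp _ M.hom
  have huniv := H4.TorsionDense.dense M 2 (Nat.cast_ne_zero.mpr two_ne_zero)
    (H := Set.range (1 : pt ⟶ M).left) (1 : pt ⟶ M).left.isClosedEmbedding.isClosed_range
    fun m a ha => by rw [htriv _ (pow_ne_zero _ two_ne_zero) a ha]; exact ⟨_, rfl⟩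
  refine ⟨c, hc.ne', fun a ha => ?_⟩
  obtain ⟨m, hm⟩ := hpow a ha
  have hm1 : m = 1 := by
    refine Over.OverMorphism.ext (ext_of_apply_closedPoint_eq M.hom (Over.w _) (Over.w _) ?_)
    obtain ⟨z, hz⟩ : m.left (IsLocalRing.closedPoint k) ∈ Set.range (1 : pt ⟶ M).left := huniv ▸ trivial
    exact hz.symm.trans (congrArg (1 : pt ⟶ M).left (Subsingleton.elim (α := PrimeSpectrum k) _ _))
  rw [← hm, hm1, MonObj.one_comp]

/-- Injective on torsion implies injective on points. -/
theorem points_injective (x : pt ⟶ G) (hx : x ≫ h = 1) : x = 1 := by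
  obtain ⟨s, _, hs1⟩ := exists_fT hs hs' h
  obtain ⟨h', _, hh'⟩ := exists_hA hs hs' h
  obtain ⟨r, _, hr⟩ := torus_retraction hs.torus hs'.torus s fun n hn x hx hxs =>
    fT_injective hs hs' h hinj hs1 n hn x hx hxs
  obtain ⟨c, hc, hexp⟩ := exists_exponent hs hs' h hinj hh'
  have h1 : (x ≫ proj) ≫ h' = 1 := by
    rw [Category.assoc, hh', ← Category.assoc, hx, MonObj.one_comp]
  obtain ⟨t, ht⟩ := exists_fac incl proj hs.comp hs.shortExact (x ^ c) (by rw [MonObj.pow_comp, hexp _ h1])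
  have h2 : t ≫ s = 1 := injective_points incl' proj' hs'.comp hs'.shortExact _ _ (by
    rw [Category.assoc, hs1, ← Category.assoc, ht, MonObj.pow_comp, hx, one_pow, MonObj.one_comp])
  have h3 : t = 1 := by rw [← Category.comp_id t, ← hr, ← Category.assoc, h2, MonObj.one_comp]
  exact hinj c hc x (by rw [← ht, h3, MonObj.one_comp]) hx

variable (hsurj : ∀ (n : ℕ), n ≠ 0 → ∀ y' : (𝟙_ (Over (Spec (CommRingCat.of k)))) ⟶ G', y' ^ n = 1 → ∃ y : (𝟙_ (Over (Spec (CommRingCat.of k)))) ⟶ G, y ^ n = 1 ∧ y ≫ h = y')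

include hsurj

/-- The map on tori is an isomorphism. -/
theorem fT_isIso {s : T ⟶ T'} [IsMonHom s] (hs1 : s ≫ incl' = incl ≫ h) : IsIso s := by
  obtain ⟨h', _, hh'⟩ := exists_hA hs hs' h
  obtain ⟨r, _, hr⟩ := torus_retraction hs.torus hs'.torus s fun n hn x hx hxs =>
    fT_injective hs hs' h hinj hs1 n hn x hx hxs
  obtain ⟨c, hc, hexp⟩ := exists_exponent hs hs' h hinj hh'
  let q : T' ⟶ T' := 𝟙 T' / (r ≫ s)
  haveI : IsMonHom q := isMonHom_div _ _
  haveI := Tori.Basic.smooth_of_isTorus hs'.torus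
  have key : ∀ (n : ℕ), n ≠ 0 → ∀ t : pt ⟶ T', t ^ n = 1 → (t ^ c) ≫ q = 1 := fun n hn t ht => by
    obtain ⟨e, he, het⟩ := hsurj n hn (t ≫ incl') (by rw [← MonObj.pow_comp, ht, MonObj.one_comp])
    obtain ⟨u, hu⟩ := exists_fac incl proj hs.comp hs.shortExact (e ^ c) (by
      rw [MonObj.pow_comp, hexp (e ≫ proj) (by
        rw [Category.assoc, hh', ← Category.assoc, het, Category.assoc, hs'.comp, MonObj.comp_one])])
    have h1 : u ≫ s = t ^ c := injective_points incl' proj' hs'.comp hs'.shortExact _ _ (by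
      rw [Category.assoc, hs1, ← Category.assoc, hu, MonObj.pow_comp, het, ← MonObj.pow_comp])
    simp only [q, ← h1, GrpObj.comp_div, Category.comp_id]
    rw [Category.assoc, reassoc_of% hr, div_self']
  have hq : q = 1 := torus_hom_eq_one hs'.torus q fun n hn t ht => by
    obtain ⟨z, hz⟩ := torus_root hs'.torus hc t
    rw [← hz]
    exact key (c * n) (mul_ne_zero hc hn) z (by rw [pow_mul, hz, ht])
  exact ⟨r, hr, (div_eq_one.1 hq).symm⟩

/-- The map on the abelian quotients is an isomorphism. -/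
theorem hA_isIso {h' : A ⟶ A'} [IsMonHom h'] (hh' : proj ≫ h' = h ≫ proj') : IsIso h' := by
  obtain ⟨a1, a2, a3, a4, a5⟩ := abelian_props A hs.abelian
  haveI := a1; haveI := a2; haveI := a4
  obtain ⟨g1, g2, g3, g4, g5⟩ := abelian_props A' hs'.abelian
  haveI := g1; haveI := g2; haveI := g4; haveI := g5
  obtain ⟨c, hc, hexp⟩ := exists_exponent hs hs' h hinj hh'
  obtain ⟨s, _, hs1⟩ := exists_fT hs hs' h
  haveI := fT_isIso hs hs' h hinj hsurj hs1
  have hpts : ∀ a : pt ⟶ A, a ≫ h' = 1 → a = 1 := fun a ha => by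
    obtain ⟨e, he, hea⟩ := exists_torsion_lift incl proj hs.comp hs.shortExact (fun t => torus_root hs.torus hc t) a
      (hexp a ha)
    obtain ⟨σ, hσ⟩ := exists_fac incl' proj' hs'.comp hs'.shortExact (e ≫ h) (by
      rw [Category.assoc, ← hh', ← Category.assoc, hea, ha])
    have h2 : e / ((σ ≫ inv s) ≫ incl) = 1 := points_injective hs hs' h hinj _ (by
      rw [GrpObj.div_comp, Category.assoc _ incl, ← hs1, Category.assoc, IsIso.inv_hom_id_assoc, hσ, div_self'])
    rw [← hea, div_eq_one.1 h2, Category.assoc, hs.comp, MonObj.comp_one]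
  obtain ⟨N, _, i, _, hN, -⟩ := H4.IsogenyFactor.exists_kernel h'
  haveI : IsClosedImmersion i.left := by
    haveI : IsClosedImmersion (η[A'].left ≫ A'.hom) := by
      rw [Over.w η[A']]; exact (inferInstance : IsClosedImmersion (𝟙 (Spec (CommRingCat.of k))))
    haveI : IsClosedImmersion η[A'].left := IsClosedImmersion.of_comp η[A'].left A'.hom
    exact MorphismProperty.of_isPullback (P := @IsClosedImmersion) (hN.map (Over.forget _)).flip ‹IsClosedImmersion η[A'].left›
  haveI : Mono i := Over.mono_of_mono_left _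
  haveI : IsProper N.hom := by rw [← Over.w i]; infer_instance
  haveI : Smooth N.hom := H63.GrpSmooth.smooth_of_charZero N
  haveI : IsReduced N.left := GrpSch.isReduced_of_smooth_field N.hom
  haveI : JacobsonSpace N.left := LocallyOfFiniteType.jacobsonSpace N.hom
  haveI : IsClosedImmersion η[N].left := by
    haveI : IsClosedImmersion (η[N].left ≫ N.hom) := by
      rw [Over.w]; exact (inferInstance : IsClosedImmersion (𝟙 (Spec (CommRingCat.of k))))
    exact IsClosedImmersion.of_comp _ N.hom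
  haveI : Surjective η[N].left := ⟨by
    rw [← Set.range_eq_univ]
    refine H4.TorsionDense.eq_univ_of_closedPoints η[N].left.isClosedEmbedding.isClosed_range fun x hx => ?_
    let b : pt ⟶ N := Over.homMk (pointOfClosedPoint N.hom x hx) (pointOfClosedPoint_comp N.hom x hx)
    have hb : b = η[N] := by
      refine (cancel_mono i).1 ?_
      rw [IsMonHom.one_hom, hpts (b ≫ i) (by rw [Category.assoc, hN.w, ← Category.assoc, toUnit_unique (b ≫ toUnit N) (𝟙 _), Category.id_comp, MonObj.one_eq_one]), MonObj.one_eq_one]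
    exact ⟨IsLocalRing.closedPoint k, by rw [← hb]; exact pointOfClosedPoint_apply N.hom x hx _⟩⟩
  haveI hiso : IsIso η[N].left := isIso_of_isClosedImmersion_of_surjective _
  have hker : ∀ {V : Over (Spec (CommRingCat.of k))} (x : V ⟶ A), x ≫ h' = 1 → x = 1 := fun x hx => by
    let z := hN.lift x (toUnit _) (by rw [hx, Hom.one_def])
    have hz : z ≫ i = x := hN.lift_fst _ _ _
    have e : toUnit N ≫ η[N] = 𝟙 N := Over.OverMorphism.ext ((cancel_epi η[N].left).1 (by
      rw [← Over.comp_left, ← Category.assoc, toUnit_unique (η[N] ≫ toUnit N) (𝟙 _), Category.id_comp, Over.id_left,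
        Category.comp_id]))
    rw [← hz, ← Category.comp_id z, ← e, Category.assoc, Category.assoc, IsMonHom.one_hom, MonObj.one_eq_one,
      MonObj.comp_one, MonObj.comp_one]
  haveI : Mono h' := ⟨fun a b hab => div_eq_one.1 (hker _ (by rw [GrpObj.div_comp, hab, div_self']))⟩
  haveI : IsProper (h'.left ≫ A'.hom) := by rw [Over.w h']; infer_instance
  haveI : IsProper h'.left := IsProper.of_comp h'.left A'.hom
  haveI := GrpQ.MonoClosed.isClosedImmersion_of_mono h'
  haveI : IsCommMonObj A' := inferInstance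
  haveI : Fact (Nat.Prime 2) := ⟨Nat.prime_two⟩
  haveI : Surjective h'.left := ⟨by
    rw [← Set.range_eq_univ]
    refine H4.TorsionDense.dense A' 2 (Nat.cast_ne_zero.mpr two_ne_zero) h'.left.isClosedEmbedding.isClosed_range
      fun m a ha => ?_
    obtain ⟨e', he', hea⟩ := exists_torsion_lift incl' proj' hs'.comp hs'.shortExact
      (fun t => torus_root hs'.torus (pow_ne_zero m two_ne_zero) t) a ha
    obtain ⟨e, -, hee⟩ := hsurj _ (pow_ne_zero m two_ne_zero) e' he'
    refine ⟨(e ≫ proj).left (IsLocalRing.closedPoint k), ?_⟩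
    rw [← Scheme.Hom.comp_apply, ← Over.comp_left, Category.assoc, hh', ← Category.assoc, hee, hea]⟩
  haveI : IsIso h'.left := isIso_of_isClosedImmersion_of_surjective _
  haveI : IsIso ((Over.forget _).map h') := ‹IsIso h'.left›
  exact isIso_of_reflects_iso h' (Over.forget _)

/-- A homomorphism of semi-abelian varieties bijective on torsion is an isomorphism. -/
theorem semiAb_isIso : IsIso h := by
  obtain ⟨s, _, hs1⟩ := exists_fT hs hs' h
  haveI := fT_isIso hs hs' h hinj hsurj hs1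
  obtain ⟨h', _, hh'⟩ := exists_hA hs hs' h
  haveI := hA_isIso hs hs' h hinj hsurj hh'
  have hker : ∀ {V : Over (Spec (CommRingCat.of k))} (x : V ⟶ G), x ≫ h = 1 → x = 1 := fun x hx => by
    obtain ⟨t, ht⟩ := exists_fac incl proj hs.comp hs.shortExact x ((cancel_mono h').1 (by
      rw [Category.assoc, hh', ← Category.assoc, hx, MonObj.one_comp, MonObj.one_comp]))
    have h1 : t = 1 := (cancel_mono s).1 (injective_points incl' proj' hs'.comp hs'.shortExact _ _ (by
      rw [Category.assoc, hs1, ← Category.assoc, ht, hx, MonObj.one_comp, MonObj.one_comp]))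
    rw [← ht, h1, MonObj.one_comp]
  obtain ⟨g, hg⟩ := H2.Mult.exists_of_rel (K := Scheme.fppfPrecoverage)
    (fun V (f : V ⟶ G') (b : V ⟶ G) => b ≫ h = f)
    (fun V f a b ha hb => div_eq_one.1 (hker _ (by rw [GrpObj.div_comp, ha, hb, div_self'])))
    (fun V W f a b hb => by rw [Category.assoc, hb])
    (H2.Mult.liftSieve_mem proj hs.shortExact.epi_g (proj' ≫ inv h'))
    (fun V f ⟨b, hb⟩ => by
      obtain ⟨t, ht⟩ := exists_fac incl' proj' hs'.comp hs'.shortExact (f / (b ≫ h)) (by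
        rw [GrpObj.div_comp, Category.assoc b, ← hh', ← Category.assoc b, hb, Category.assoc, Category.assoc,
          IsIso.inv_hom_id, Category.comp_id, div_self'])
      refine ⟨((t ≫ inv s) ≫ incl) * b, ?_⟩
      rw [MonObj.mul_comp, Category.assoc _ incl, ← hs1, Category.assoc, IsIso.inv_hom_id_assoc, ht, div_mul_cancel])
  refine ⟨g, hg G h (𝟙 G) (Category.id_comp h), H2.Mult.hom_ext_sieve
    (H2.Mult.liftSieve_mem proj hs.shortExact.epi_g (proj' ≫ inv h')) fun V f ⟨b, hb⟩ => ?_⟩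
  obtain ⟨t, ht⟩ := exists_fac incl' proj' hs'.comp hs'.shortExact (f / (b ≫ h)) (by
    rw [GrpObj.div_comp, Category.assoc b, ← hh', ← Category.assoc b, hb, Category.assoc, Category.assoc,
      IsIso.inv_hom_id, Category.comp_id, div_self'])
  have hc : (((t ≫ inv s) ≫ incl) * b) ≫ h = f := by
    rw [MonObj.mul_comp, Category.assoc _ incl, ← hs1, Category.assoc, IsIso.inv_hom_id_assoc, ht, div_mul_cancel]
  rw [← Category.assoc, hg V f _ hc, hc, Category.comp_id]

end Groth.Agent.Lib.OneMot6
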