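import Groth.Prelude.Def_OneMot
import Groth.Agent.H2.Mult.Sheaf
import Groth.Agent.Lib.GrpSch.Translate
import Groth.Agent.Lib.SmWeil.CartanSolvable
import Groth.Agent.H4.NPowEtale
import Groth.Agent.S18542

/-!
# Rational points and torsion of one-motives over an algebraically closed field
-/

set_option autoImplicit false
set_option linter.style.haveILetI false
set_option linter.unusedSectionVars false

universe u

open CategoryTheory CategoryTheory.Limits AlgebraicGeometry MonoidalCategory CartesianMonoidalCategory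
open CategoryTheory.MonObj CategoryTheory.GrpObj
open Groth.Agent.Lib

namespace Groth.Agent.Lib.OneMot6

variable {k : Type u} [Field k] [IsAlgClosed k]

local notation3 "pt" => (𝟙_ (Over (Spec (CommRingCat.of k))))

/-- A covering sieve of the point contains an arrow with a rational point. -/
theorem exists_point_of_mem {R : Sieve pt} (hR : R ∈ QuotSh.J Scheme.fppfPrecoverage (Spec (CommRingCat.of k)) pt) :
    ∃ (V : Over (Spec (CommRingCat.of k))) (f : V ⟶ pt) (v : pt ⟶ V), R.arrows f ∧ v ≫ f = 𝟙 pt := by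
  rw [GrothendieckTopology.mem_over_iff, Precoverage.mem_toGrothendieck_iff_of_isStableUnderComposition] at hR
  obtain ⟨P, ⟨hj, hP⟩, hle⟩ := hR
  rw [Scheme.jointlySurjectivePrecoverage, Presieve.mem_comap_jointlySurjectivePrecoverage_iff] at hj
  obtain ⟨Y, g, hg, y, -⟩ := hj (IsLocalRing.closedPoint k)
  haveI : LocallyOfFinitePresentation g := (hP hg).2
  let V : Over (Spec (CommRingCat.of k)) := Over.mk (g ≫ (pt).hom)
  let f : V ⟶ pt := Over.homMk g rfl
  have hf : R.arrows f := (Sieve.overEquiv_iff R g).1 (hle _ _ hg)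
  haveI : LocallyOfFinitePresentation V.hom := by
    show LocallyOfFinitePresentation (g ≫ 𝟙 _)
    rw [Category.comp_id]
    infer_instance
  haveI : LocallyOfFiniteType V.hom := inferInstance
  haveI : JacobsonSpace V.left := LocallyOfFiniteType.jacobsonSpace V.hom
  obtain ⟨c, -, hc⟩ := nonempty_inter_closedPoints (X := V.left) (Z := Set.univ) ⟨y, trivial⟩ isClosed_univ.isLocallyClosed
  let v : pt ⟶ V := Over.homMk (pointOfClosedPoint V.hom c hc) (pointOfClosedPoint_comp V.hom c hc)
  exact ⟨V, f, v, hf, toUnit_unique _ _⟩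

variable {G H L : Over (Spec (CommRingCat.of k))} [GrpObj G] [IsCommMonObj G] [GrpObj H] [IsCommMonObj H]
  [GrpObj L] [IsCommMonObj L] (i : G ⟶ H) (p : H ⟶ L) [IsMonHom i] [IsMonHom p] (w : i ≫ p = 1)
  (hex : (CGrpSh.seq Scheme.fppfPrecoverage i p w).ShortExact)

include hex

/-- Points of the subgroup inject. -/
theorem injective_points {T : Over (Spec (CommRingCat.of k))} (a b : T ⟶ G) (h : a ≫ i = b ≫ i) : a = b := by
  haveI : Mono (CGrpSh.ptsMap Scheme.fppfPrecoverage i) := hex.mono_f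
  have h1 : Mono ((CGrpSh.ptsMap Scheme.fppfPrecoverage i).hom.app (Opposite.op T)) :=
    inferInstanceAs (Mono ((sheafToPresheaf _ AddCommGrpCat.{u + 1} ⋙
      (evaluation _ AddCommGrpCat.{u + 1}).obj (Opposite.op T)).map (CGrpSh.ptsMap Scheme.fppfPrecoverage i)))
  have h2 := (AddCommGrpCat.mono_iff_injective _).1 h1
    (a₁ := ULift.up (Additive.ofMul a)) (a₂ := ULift.up (Additive.ofMul b))
    (ULift.ext _ _ (congrArg Additive.ofMul h))
  exact congrArg (fun z => Additive.toMul z.down) h2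

/-- A point killed by the projection comes from the subgroup. -/
theorem exists_fac {T : Over (Spec (CommRingCat.of k))} (m : T ⟶ H) (hm : m ≫ p = 1) : ∃ t, t ≫ i = m := by
  have hR := H2.Mult.liftSieve_mem_of_exact i p w hex.exact m hm
  obtain ⟨a, ha⟩ := H2.Mult.exists_of_rel (K := Scheme.fppfPrecoverage) (fun V (f : V ⟶ T) (b : V ⟶ G) => b ≫ i = f ≫ m)
    (fun V f a b h h' => injective_points i p w hex a b (h.trans h'.symm))
    (fun V W g f a h => by rw [Category.assoc, h, Category.assoc]) hR (fun V f hf => hf)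
  refine ⟨a, H2.Mult.hom_ext_sieve hR fun V f hf => ?_⟩
  obtain ⟨b, hb⟩ := hf
  rw [← Category.assoc, ha V f b hb, hb]

/-- The projection is surjective on rational points. -/
theorem exists_lift (y : pt ⟶ L) : ∃ x : pt ⟶ H, x ≫ p = y := by
  obtain ⟨V, f, v, ⟨t, ht⟩, hv⟩ := exists_point_of_mem (H2.Mult.liftSieve_mem p hex.epi_g y)
  exact ⟨v ≫ t, by rw [Category.assoc, ht, ← Category.assoc, hv, Category.id_comp]⟩

/-- The middle group is divisible on points if the outer ones are. -/
theorem exists_root {n : ℕ} (hG : ∀ y : pt ⟶ G, ∃ z, z ^ n = y) (hL : ∀ y : pt ⟶ L, ∃ z, z ^ n = y)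
    (y : pt ⟶ H) : ∃ z, z ^ n = y := by
  obtain ⟨a, ha⟩ := hL (y ≫ p)
  obtain ⟨g, hg⟩ := exists_lift i p w hex a
  obtain ⟨t, ht⟩ := exists_fac i p w hex (y / g ^ n) (by rw [GrpObj.div_comp, MonObj.pow_comp, hg, ha, div_self'])
  obtain ⟨t', rfl⟩ := hG t
  exact ⟨(t' ≫ i) * g, by rw [mul_pow, ← MonObj.pow_comp, ht, div_mul_cancel]⟩

/-- Torsion points of the quotient lift to torsion points. -/
theorem exists_torsion_lift {n : ℕ} (hG : ∀ y : pt ⟶ G, ∃ z, z ^ n = y) (a : pt ⟶ L) (ha : a ^ n = 1) :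
    ∃ x : pt ⟶ H, x ^ n = 1 ∧ x ≫ p = a := by
  obtain ⟨g, hg⟩ := exists_lift i p w hex a
  obtain ⟨t, ht⟩ := exists_fac i p w hex (g ^ n) (by rw [MonObj.pow_comp, hg, ha])
  obtain ⟨t', rfl⟩ := hG t
  refine ⟨g / (t' ≫ i), by rw [div_pow, ← MonObj.pow_comp, ht, div_self'], ?_⟩
  rw [GrpObj.div_comp, hg, Category.assoc, w, MonObj.comp_one, div_one]

end Groth.Agent.Lib.OneMot6
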