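import Groth.Agent.Lib.OneMot6.Faithful
import Groth.Agent.H82.Weyl.FieldHom
import Mathlib.RingTheory.SimpleModule.Basic
import Mathlib.RingTheory.Int.Basic

/-!
# Homomorphisms of lattices and tori which are injective on torsion
-/

set_option autoImplicit false
set_option linter.style.haveILetI false

universe u

open CategoryTheory CategoryTheory.Limits AlgebraicGeometry MonoidalCategory CartesianMonoidalCategory
open CategoryTheory.MonObj CategoryTheory.GrpObj
open Groth.Agent.Lib Groth.Agent.Lib.RedPts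

namespace Groth.Agent.Lib.OneMot6

variable {k : Type u} [Field k] [IsAlgClosed k]

local notation3 "pt" => (𝟙_ (Over (Spec (CommRingCat.of k))))

/-- A proper subgroup of `ℤ^r` is killed by a nonzero character to some `ℤ/n`. -/
theorem exists_theta {r : ℕ} (H : AddSubgroup (Fin r → ℤ)) (hH : H ≠ ⊤) :
    ∃ (n : ℕ) (θ : (Fin r → ℤ) →+ ZMod n), n ≠ 0 ∧ θ ≠ 0 ∧ H ≤ θ.ker := by
  have hne : H.toIntSubmodule ≠ ⊤ := fun h => hH (by
    refine eq_top_iff.2 fun x _ => ?_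
    have : x ∈ H.toIntSubmodule := h ▸ trivial
    exact this)
  obtain ⟨N, hN, hle⟩ := (eq_top_or_exists_le_coatom H.toIntSubmodule).resolve_left hne
  haveI : IsSimpleModule ℤ ((Fin r → ℤ) ⧸ N) := isSimpleModule_iff_isCoatom.2 hN
  obtain ⟨I, hI, ⟨ε⟩⟩ := isSimpleModule_iff_quot_maximal.1 this
  obtain ⟨a, rfl⟩ : ∃ a : ℤ, I = Ideal.span {a} := (IsPrincipalIdealRing.principal I).principal
  have ha : a ≠ 0 := by
    rintro rfl
    obtain ⟨x, hx⟩ := Ring.not_isField_iff_exists_ideal_bot_lt_and_lt_top.1 Int.not_isField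
    have := hI.eq_of_le hx.2.ne (by simp)
    simp [← this] at hx
  let θ : (Fin r → ℤ) →+ ZMod a.natAbs :=
    (Int.quotientSpanEquivZMod a).toAddEquiv.toAddMonoidHom.comp (ε.toAddEquiv.toAddMonoidHom.comp N.mkQ.toAddMonoidHom)
  refine ⟨a.natAbs, θ, Int.natAbs_ne_zero.2 ha, fun h => ?_, fun x hx => ?_⟩
  · refine hN.1 (eq_top_iff.2 fun x _ => ?_)
    have h1 := DFunLike.congr_fun h x
    simp only [θ, AddMonoidHom.comp_apply, AddEquiv.coe_toAddMonoidHom, AddMonoidHom.zero_apply,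
      LinearMap.toAddMonoidHom_coe, map_eq_zero_iff _ (AddEquiv.injective _)] at h1
    exact (Submodule.Quotient.mk_eq_zero N).1 h1
  · have h1 : N.mkQ x = 0 := (Submodule.Quotient.mk_eq_zero N).2 (hle hx)
    simp only [θ, AddMonoidHom.mem_ker, AddMonoidHom.comp_apply, AddEquiv.coe_toAddMonoidHom,
      LinearMap.toAddMonoidHom_coe, h1, map_zero]

/-- A homomorphism of lattices bijective on points is an isomorphism. -/
theorem lattice_isIso {L L' : Over (Spec (CommRingCat.of k))} [GrpObj L] [GrpObj L'] (hL : OneMot.IsLattice L)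
    (hL' : OneMot.IsLattice L') (a : L ⟶ L')
    (ha : Function.Bijective (fun x : Over.mk (𝟙 (Spec (CommRingCat.of k))) ⟶ L => x ≫ a)) : IsIso a := by
  obtain ⟨r, φ, hφ, hext, hex⟩ := lattice_data hL'
  choose c hc using fun m => ha.2 (φ m)
  obtain ⟨g, hg⟩ := hex L c
  refine ⟨g, lattice_ext hL _ _ fun x => ?_, hext _ _ _ fun m => ?_⟩
  · obtain ⟨m, hm⟩ := hφ.2 (x ≫ a)
    rw [Category.comp_id, ← Category.assoc, ← hm, hg]
    exact ha.1 ((hc m).trans hm)
  · rw [← Category.assoc, hg, Category.comp_id]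
    exact hc m

/-- A homomorphism of lattices with image meeting every class modulo every integer is surjective on points. -/
theorem lattice_surjective {L L' : Over (Spec (CommRingCat.of k))} [GrpObj L] [GrpObj L'] (hL' : OneMot.IsLattice L')
    (a : L ⟶ L') [IsMonHom a]
    (ha : ∀ n : ℕ, n ≠ 0 → ∀ z : Over.mk (𝟙 (Spec (CommRingCat.of k))) ⟶ L', ∃ x w, z = (x ≫ a) * w ^ n)
    (z : Over.mk (𝟙 (Spec (CommRingCat.of k))) ⟶ L') : ∃ x, x ≫ a = z := by
  obtain ⟨r, φ, hφ, -, -⟩ := lattice_data hL'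
  let H : AddSubgroup (Fin r → ℤ) :=
    { carrier := {v | ∃ x, x ≫ a = φ (Multiplicative.ofAdd v)}
      zero_mem' := ⟨1, by rw [MonObj.one_comp]; exact φ.map_one.symm⟩
      add_mem' := by
        rintro v w ⟨x, hx⟩ ⟨y, hy⟩
        exact ⟨x * y, by rw [MonObj.mul_comp, hx, hy, ← map_mul]; rfl⟩
      neg_mem' := by
        rintro v ⟨x, hx⟩
        exact ⟨x⁻¹, by rw [GrpObj.inv_comp, hx, ← map_inv]; rfl⟩ }
  suffices H = ⊤ by
    obtain ⟨m, rfl⟩ := hφ.2 z
    have hm : Multiplicative.toAdd m ∈ H := this ▸ trivial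
    exact hm
  by_contra hH
  obtain ⟨n, θ, hn, hθ, hle⟩ := exists_theta H hH
  refine hθ (AddMonoidHom.ext fun v => ?_)
  obtain ⟨x, w, hxw⟩ := ha n hn (φ (Multiplicative.ofAdd v))
  obtain ⟨p, hp⟩ := hφ.2 (x ≫ a)
  obtain ⟨q, rfl⟩ := hφ.2 w
  have hv : v = p.toAdd + n • q.toAdd := by
    rw [← hp, ← map_pow, ← map_mul] at hxw
    exact congrArg Multiplicative.toAdd (hφ.1 hxw)
  have h0 : θ p.toAdd = 0 := hle (⟨x, hp.symm⟩ : p.toAdd ∈ H)
  rw [hv, map_add, map_nsmul, h0, nsmul_eq_mul, ZMod.natCast_self, zero_mul, add_zero]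
  rfl

/-- A homomorphism of tori injective on torsion has a retraction. -/
theorem torus_retraction [CharZero k] {T T' : Over (Spec (CommRingCat.of k))} [GrpObj T] [GrpObj T']
    (hT : Red.IsTorus T) (hT' : Red.IsTorus T') (f : T ⟶ T') [IsMonHom f]
    (h : ∀ (n : ℕ), n ≠ 0 → ∀ x : pt ⟶ T, x ^ n = 1 → x ≫ f = 1 → x = 1) :
    ∃ (g : T' ⟶ T) (_ : IsMonHom g), f ≫ g = 𝟙 T := by
  obtain ⟨r, ⟨e⟩⟩ := H87.TorusIn.exists_split T hT
  obtain ⟨r', ⟨e'⟩⟩ := H87.TorusIn.exists_split T' hT'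
  let E := Tori.BaseChange.overIso e
  let E' := Tori.BaseChange.overIso e'
  haveI : IsMonHom E.inv := inferInstanceAs (IsMonHom (Tori.BaseChange.overIso e.symm).hom)
  haveI : IsMonHom E'.inv := inferInstanceAs (IsMonHom (Tori.BaseChange.overIso e'.symm).hom)
  obtain ⟨φ, hφ⟩ := H82.Weyl.exists_DSmap (A := CommRingCat.of k) (E.inv ≫ f ≫ E'.hom)
  have hs : Function.Surjective φ := by
    refine AddMonoidHom.range_eq_top.1 ?_
    by_contra hne
    obtain ⟨n, θ, hn, hθ, hle⟩ := exists_theta φ.range hne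
    haveI : NeZero n := ⟨hn⟩
    haveI : NeZero (n : k) := ⟨Nat.cast_ne_zero.2 hn⟩
    obtain ⟨ζ, hζ⟩ := HasEnoughRootsOfUnity.exists_primitiveRoot k n
    let R := Γ((pt).left, ⊤)
    let F : k ≃+* R := (Scheme.ΓSpecIso (CommRingCat.of k)).symm.commRingCatIsoToRingEquiv
    have hζ' : IsPrimitiveRoot (F ζ) n := hζ.map_of_injective F.injective
    let ν : Multiplicative (ZMod n) →* R := (Units.coeHom R).comp
      ((ZMod.lift n ⟨(zmultiplesHom (Additive Rˣ)) (Additive.ofMul (hζ'.isUnit hn).unit), by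
        simp only [zmultiplesHom_apply, natCast_zsmul]
        exact congrArg Additive.ofMul (Units.ext (by simp [hζ'.pow_eq_one]))⟩).toMultiplicativeLeft)
    have hν : ∀ z : ℤ, ν (Multiplicative.ofAdd (z : ZMod n)) = (((hζ'.isUnit hn).unit ^ z : Rˣ) : R) := fun z => by
      simp [ν, ZMod.lift_coe, zmultiplesHom_apply]
    let u : pt ⟶ Red.DS (Spec (CommRingCat.of k)) (Fin r → ℤ) := Gm.dsPt (ν.comp θ.toMultiplicative)
    have hu : u ^ n = 1 := Gm.dsFn_ext fun m => by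
      rw [Gm.dsFn_pow, Gm.dsFn_dsPt, Gm.dsFn_one, ← map_pow, ← ofAdd_nsmul, MonoidHom.comp_apply]
      have : θ (n • m) = 0 := by rw [map_nsmul, nsmul_eq_mul, ZMod.natCast_self, zero_mul]
      show ν (Multiplicative.ofAdd (θ (n • m))) = 1
      rw [this, ofAdd_zero, map_one]
    have hu2 : u ≫ Red.DSmap (Spec (CommRingCat.of k)) φ = 1 := Gm.dsFn_ext fun m => by
      rw [Gm.dsFn_DSmap, Gm.dsFn_dsPt, Gm.dsFn_one]
      have : θ (φ m) = 0 := hle ⟨m, rfl⟩
      show ν (Multiplicative.ofAdd (θ (φ m))) = 1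
      rw [this, ofAdd_zero, map_one]
    have hu3 : u ≫ E.inv = 1 := h n hn _ (by rw [← MonObj.pow_comp, hu, MonObj.one_comp]) (by
      refine (cancel_mono E'.hom).1 ?_
      rw [Category.assoc, Category.assoc, hφ, hu2, MonObj.one_comp])
    have hu4 : u = 1 := (cancel_mono E.inv).1 (by rw [hu3, MonObj.one_comp])
    refine hθ (AddMonoidHom.ext fun m => ?_)
    have h1 := congrArg (fun x => Gm.dsFn x m) hu4
    simp only [u, Gm.dsFn_dsPt, Gm.dsFn_one, MonoidHom.comp_apply, AddMonoidHom.toMultiplicative_apply_apply,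
      toAdd_ofAdd] at h1
    obtain ⟨z, hz⟩ := ZMod.intCast_surjective (θ m)
    rw [← hz, hν, Units.val_eq_one, ← orderOf_dvd_iff_zpow_eq_one] at h1
    rw [← hz, AddMonoidHom.zero_apply, ZMod.intCast_zmod_eq_zero_iff_dvd]
    rw [← orderOf_units, IsUnit.unit_spec, ← hζ'.eq_orderOf] at h1
    exact h1
  obtain ⟨σ, hσ⟩ : ∃ σ : (Fin r → ℤ) →+ (Fin r' → ℤ), φ.comp σ = AddMonoidHom.id _ := by
    obtain ⟨σ, hσ⟩ := φ.toIntLinearMap.exists_rightInverse_of_surjective (LinearMap.range_eq_top.2 hs)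
    exact ⟨σ.toAddMonoidHom, AddMonoidHom.ext fun x => LinearMap.congr_fun hσ x⟩
  haveI := Gm.isMonHom_DSmap (S := Spec (CommRingCat.of k)) σ
  refine ⟨E'.hom ≫ Red.DSmap _ σ ≫ E.inv, inferInstance, ?_⟩
  have h1 : Red.DSmap (Spec (CommRingCat.of k)) φ ≫ Red.DSmap (Spec (CommRingCat.of k)) σ = 𝟙 _ := Gm.dsFn_ext fun m => by
    rw [Gm.dsFn_DSmap, Tori.DS.dsFn_DSmap_self]
    exact congrArg _ (DFunLike.congr_fun hσ m)
  rw [← hφ] at h1
  simp only [Category.assoc] at h1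
  refine (cancel_epi E.inv).1 ((cancel_mono E.hom).1 ?_)
  simpa using h1

end Groth.Agent.Lib.OneMot6
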